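import Cfsg.Agent.Lib.Goldschmidt.General.Setup
import Cfsg.Agent.Lib.Goldschmidt.General.Inner
import Cfsg.Agent.Lib.PReduced.Local
import Cfsg.Agent.Lib.PGroup.Basic
import Cfsg.Agent.Lib.Components.Basic

/-!
# A component of parameter four with a fixer of order two (owner: helper64)

`S` centralises `A`, so it acts on the component `M` at `a`; `Top a M ⊆ S` is the part of `S` over `M`.

* `Pt`, `sproj`, `Top`
* `Pt.comm_surj`   : outside the part, commutators give the whole part (`U₃(4)`)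
* `Pt.exists_inner` : elements of `S` acting on `Top` modulo the part are inner
* `Pt.exists_sqrt` : the part consists of squares if `Top` is larger
* `Pt.false_of_flat` : if `Top` is the part then `A` is not in `Φ(S)`
-/

set_option autoImplicit false
set_option linter.unusedSectionVars false
set_option linter.style.haveILetI false

namespace Cfsg.Agent.Goldschmidt.General.Exceptional

open Cfsg Subgroup
open scoped commutatorElement

universe u

variable {G : Type u} [Group G] [Finite G] {S : Sylow 2 G} {A : Subgroup G}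

/-- A component of parameter four, fixed by `⟨a⟩`, with part `P`. -/
structure Pt (A : Subgroup G) (a : G) (M : Subgroup (Bar a)) (P : Subgroup G) : Prop where
  moved : MovedAt A a M 4
  fixer : fixerAt A a M = zpowers a
  part : partAt A a M = P
  card : Nat.card ↥P = 4

theorem le_cent (hS : (S : Subgroup G) ≤ centralizer (A : Set G)) {a : G} (ha : a ∈ A) :
    (S : Subgroup G) ≤ centralizer ({a} : Set G) := fun _ hx =>
  mem_centralizer_singleton_iff.2 (mem_centralizer_iff.1 (hS hx) a ha).symm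

/-- The projection of `S` to `Bar a`. -/
abbrev sproj {a : G} (hSa : (S : Subgroup G) ≤ centralizer ({a} : Set G)) :
    ↥(S : Subgroup G) →* Bar a :=
  (proj a).comp (Subgroup.inclusion hSa)

theorem sproj_injective {a : G} (hSa : (S : Subgroup G) ≤ centralizer ({a} : Set G)) :
    Function.Injective (sproj hSa) := by
  haveI : Fact (Nat.Prime 2) := ⟨Nat.prime_two⟩
  refine (injective_iff_map_eq_one _).2 fun x hx => ?_
  have h1 : Subgroup.inclusion hSa x = 1 := Coprime.eq_one_of_mem_of_mem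
    (Coprime.coprime_of_isPGroup (Cores.coprime_card_pPrimeCore 2)
      (S.isPGroup'.comap_of_injective _ (subtype_injective _)))
    ((QuotientGroup.eq_one_iff _).1 hx) (mem_subgroupOf.2 x.2 :
      Subgroup.inclusion hSa x ∈ (S : Subgroup G).subgroupOf _)
  exact Subgroup.inclusion_injective hSa (h1.trans (map_one _).symm)

/-- The elements of `S` over `M`. -/
abbrev Top {a : G} (hSa : (S : Subgroup G) ≤ centralizer ({a} : Set G)) (M : Subgroup (Bar a)) :
    Subgroup ↥(S : Subgroup G) :=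
  M.comap (sproj hSa)

variable (C : Ctx G S A) (hS : (S : Subgroup G) ≤ centralizer (A : Set G)) (L : LocalsHold A)

section

variable {a : G} {M : Subgroup (Bar a)} {P : Subgroup G} (p : Pt A a M P)

include C p in
theorem Pt.mem_part {x : G} (hx : x ∈ P) : x ∈ A := by
  rw [← p.part] at hx
  exact hx.1

include C p in
theorem Pt.simple : Subgroup.center ↥M = ⊥ := by
  by_contra h
  exact absurd (p.moved.data.cover h).1 (by norm_num)

include C p in
/-- Membership of the part. -/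
theorem Pt.mem_part_iff {x : ↥(S : Subgroup G)} (hx : (x : G) ∈ A) :
    (x : G) ∈ P ↔ x ∈ Top (le_cent hS p.moved.mem) M := by
  have h1 : (x : G) ∈ partAt A a M ↔ x ∈ Top (le_cent hS p.moved.mem) M := C.mem_pull p.moved.mem hx
  exact (iff_of_eq (congrArg (fun Q : Subgroup G => (x : G) ∈ Q) p.part.symm)).trans h1

include C L p in
/-- `S` normalises the component. -/
theorem Pt.norm (s : ↥(S : Subgroup G)) :
    sproj (le_cent hS p.moved.mem) s ∈ normalizer (M : Set (Bar a)) := by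
  set y := sproj (le_cent hS p.moved.mem) s
  set M' := M.map (MulAut.conj y).toMonoidHom
  suffices h : M' = M from Coprime.mem_normalizer_of_forall fun m hm =>
    h.le ⟨m, hm, rfl⟩
  by_contra hne
  have hmov := (L a p.moved.mem p.moved.ne).conj M p.moved.moved y
  have hbot := Components.IsComponent.commutator_eq_bot hmov.1 p.moved.moved.1 hne
  -- a non-trivial element of the part
  obtain ⟨x, hx, hx1⟩ := (bot_or_exists_ne_one P).resolve_left fun e => by
    have := p.card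
    rw [e, card_bot] at this
    norm_num at this
  have hxA := p.mem_part C hx
  have hxS : x ∈ (S : Subgroup G) := C.le hxA
  set z := sproj (le_cent hS p.moved.mem) ⟨x, hxS⟩
  have hzM : z ∈ M := (p.mem_part_iff C hS (x := ⟨x, hxS⟩) hxA).1 hx
  have hzy : y * z * y⁻¹ = z := by
    have h : s * ⟨x, hxS⟩ * s⁻¹ = (⟨x, hxS⟩ : ↥(S : Subgroup G)) := Subtype.ext (by
      show (s : G) * x * (s : G)⁻¹ = x
      rw [← mem_centralizer_iff.1 (hS s.2) x hxA, mul_inv_cancel_right])
    rw [← map_inv, ← map_mul, ← map_mul, h]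
  have hzM' : z ∈ M' := ⟨z, hzM, hzy⟩
  have hc : z ∈ centralizer (M : Set (Bar a)) :=
    commutator_eq_bot_iff_le_centralizer.1 hbot hzM'
  have hz1 : (⟨z, hzM⟩ : ↥M) ∈ Subgroup.center ↥M :=
    mem_center_iff.2 fun w => Subtype.ext (mem_centralizer_iff.1 hc w w.2)
  rw [p.simple C, mem_bot] at hz1
  refine hx1 ?_
  exact congrArg Subtype.val ((injective_iff_map_eq_one _).1
    (sproj_injective (le_cent hS p.moved.mem)) ⟨x, hxS⟩ (congrArg Subtype.val hz1))

include C L p in
theorem Pt.top_normal : (Top (le_cent hS p.moved.mem) M).Normal := ⟨fun x hx s => by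
  show sproj (le_cent hS p.moved.mem) (s * x * s⁻¹) ∈ M
  rw [map_mul, map_mul, map_inv]
  exact (mem_normalizer_iff.1 (p.norm C hS L s) _).1 hx⟩

include C L p in
/-- The Sylow subgroup of the simple quotient covered by `S`. -/
theorem Pt.exists_chart :
    ∃ (Qb : Sylow 2 (↥M ⧸ Subgroup.center ↥M))
      (ψ : ↥(Top (le_cent hS p.moved.mem) M) →* ↥M ⧸ Subgroup.center ↥M),
      Function.Injective ψ ∧ (∀ x, ψ x ∈ (Qb : Subgroup (↥M ⧸ Subgroup.center ↥M))) ∧
      (∀ z ∈ (Qb : Subgroup (↥M ⧸ Subgroup.center ↥M)), ∃ x, ψ x = z) ∧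
      (∀ x, ψ x = cproj M ⟨sproj (le_cent hS p.moved.mem) x, x.2⟩) ∧
      (∀ x, ψ x ∈ centre (Qb : Subgroup (↥M ⧸ Subgroup.center ↥M)) ↔ ((x : ↥(S : Subgroup G)) : G) ∈ P) := by
  haveI : Fact (Nat.Prime 2) := ⟨Nat.prime_two⟩
  set hSa := le_cent hS p.moved.mem
  set X := centralizer ({a} : Set G)
  let T : Sylow 2 (Bar a) := (S.subtype hSa).mapSurjective (f := proj a) (QuotientGroup.mk'_surjective _)
  have hT : ∀ z, z ∈ (T : Subgroup (Bar a)) ↔ ∃ s, sproj hSa s = z := fun z => by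
    constructor
    · rintro ⟨w, hw, rfl⟩
      exact ⟨⟨w, mem_subgroupOf.1 hw⟩, rfl⟩
    · rintro ⟨s, rfl⟩
      exact ⟨Subgroup.inclusion hSa s, mem_subgroupOf.2 s.2, rfl⟩
  obtain ⟨Q, hQ⟩ := PReduced.exists_sylow_inf T (C := M) fun z hz => by
    obtain ⟨s, rfl⟩ := (hT z).1 hz
    exact p.norm C hS L s
  let Qb := Q.mapSurjective (f := cproj M) (cproj_surjective' M)
  let ψ : ↥(Top hSa M) →* ↥M ⧸ Subgroup.center ↥M := (cproj M).comp ((sproj hSa).subgroupComap M)
  have hψ : ∀ x, ψ x = cproj M ⟨sproj hSa x, x.2⟩ := fun _ => rfl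
  have hinj : Function.Injective ψ := by
    refine (injective_iff_map_eq_one _).2 fun x hx => ?_
    rw [hψ, QuotientGroup.mk'_apply, QuotientGroup.eq_one_iff, p.simple C, mem_bot] at hx
    exact Subtype.ext ((injective_iff_map_eq_one _).1 (sproj_injective hSa) _ (congrArg Subtype.val hx))
  have hmem : ∀ x, ψ x ∈ (Qb : Subgroup (↥M ⧸ Subgroup.center ↥M)) := fun x =>
    ⟨⟨sproj hSa x, x.2⟩, by
      rw [SetLike.mem_coe, hQ, mem_subgroupOf]
      exact (hT _).2 ⟨x, rfl⟩, rfl⟩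
  have honto : ∀ z ∈ (Qb : Subgroup (↥M ⧸ Subgroup.center ↥M)), ∃ x, ψ x = z := by
    rintro _ ⟨m, hm, rfl⟩
    rw [SetLike.mem_coe, hQ, mem_subgroupOf] at hm
    obtain ⟨s, hs⟩ := (hT _).1 hm
    exact ⟨⟨s, show sproj hSa s ∈ M from hs ▸ m.2⟩, congrArg (cproj M) (Subtype.ext hs)⟩
  refine ⟨Qb, ψ, hinj, hmem, honto, hψ, ?_⟩
  -- the part goes onto the centre
  have hle : ∀ x : ↥(Top hSa M), ((x : ↥(S : Subgroup G)) : G) ∈ P →
      ψ x ∈ centre (Qb : Subgroup (↥M ⧸ Subgroup.center ↥M)) := fun x hx =>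
    ⟨hmem x, mem_centralizer_iff.2 fun z hz => by
      obtain ⟨y, rfl⟩ := honto z hz
      rw [← map_mul, ← map_mul]
      exact congrArg ψ (Subtype.ext (Subtype.ext
        (mem_centralizer_iff.1 (hS (y : ↥(S : Subgroup G)).2) _ (p.mem_part C hx)).symm))⟩
  let ι : ↥P → ↥(centre (Qb : Subgroup (↥M ⧸ Subgroup.center ↥M))) := fun z =>
    ⟨ψ ⟨⟨z, C.le (p.mem_part C z.2)⟩, (p.mem_part_iff C hS (x := ⟨z, C.le (p.mem_part C z.2)⟩)
      (p.mem_part C z.2)).1 z.2⟩, hle _ z.2⟩
  have hι : Function.Injective ι := fun z w h => by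
    have := hinj (congrArg Subtype.val h)
    exact Subtype.ext (congrArg (fun t : ↥(Top hSa M) => ((t : ↥(S : Subgroup G)) : G)) this)
  have hcard : Nat.card ↥P = Nat.card ↥(centre (Qb : Subgroup (↥M ⧸ Subgroup.center ↥M))) := by
    rw [p.card, (shapeFacts p.moved.data.shape).card_centre Qb]
  have hsurj : Function.Surjective ι := ((Nat.bijective_iff_injective_and_card ι).2 ⟨hι, hcard⟩).2
  refine fun x => ⟨fun hx => ?_, hle x⟩
  obtain ⟨z, hz⟩ := hsurj ⟨ψ x, hx⟩
  have := hinj (congrArg Subtype.val hz)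
  rw [← this]
  exact z.2
where
  cproj_surjective' {X : Type u} [Group X] (M : Subgroup X) : Function.Surjective (cproj M) :=
    QuotientGroup.mk'_surjective _

include C L p in
/-- A large `Top` has commutators onto the part. -/
theorem Pt.comm_surj {x : ↥(S : Subgroup G)} (hx : x ∈ Top (le_cent hS p.moved.mem) M)
    (hxP : (x : G) ∉ P) {z : G} (hz : z ∈ P) :
    ∃ r ∈ Top (le_cent hS p.moved.mem) M, z = ((⁅r, x⁆ : ↥(S : Subgroup G)) : G) := by
  obtain ⟨Qb, ψ, hinj, hmem, honto, -, hcen⟩ := p.exists_chart C hS L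
  have hxc : ψ ⟨x, hx⟩ ∉ centre (Qb : Subgroup (↥M ⧸ Subgroup.center ↥M)) := fun h =>
    hxP ((hcen _).1 h)
  have F : RankFacts (↥M ⧸ Subgroup.center ↥M) 4 := p.moved.data.shape.resolve_right fun h =>
    hxc (by rw [h.centre_eq]; exact hmem _)
  have hzA := p.mem_part C hz
  have hzT := (p.mem_part_iff C hS (x := ⟨z, C.le hzA⟩) hzA).1 hz
  obtain ⟨r', hr', he⟩ := F.small rfl Qb _ (hmem ⟨x, hx⟩) hxc _ ((hcen ⟨_, hzT⟩).2 hz)
  obtain ⟨r, rfl⟩ := honto r' hr'
  rw [← map_commutatorElement] at he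
  exact ⟨r, r.2, congrArg (fun t : ↥(Top (le_cent hS p.moved.mem) M) =>
    ((t : ↥(S : Subgroup G)) : G)) (hinj he)⟩

include C L p in
/-- An element of `S` trivial on `Top` modulo the part is inner on the component. -/
theorem Pt.exists_inner {y : ↥(S : Subgroup G)}
    (hy : ∀ x ∈ Top (le_cent hS p.moved.mem) M, ((x⁻¹ * (y * x * y⁻¹) : ↥(S : Subgroup G)) : G) ∈ P) :
    ∃ s ∈ Top (le_cent hS p.moved.mem) M,
      (∀ x ∈ Top (le_cent hS p.moved.mem) M, y * x * y⁻¹ = s * x * s⁻¹) ∧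
      ((s : G) ∈ P → sproj (le_cent hS p.moved.mem) (y * y) ∈ centralizer (M : Set (Bar a))) := by
  haveI : Fact (Nat.Prime 2) := ⟨Nat.prime_two⟩
  obtain ⟨Qb, ψ, hinj, hmem, honto, hψ, hcen⟩ := p.exists_chart C hS L
  let hSa := le_cent hS p.moved.mem
  let e : ↥M ≃* ↥M ⧸ Subgroup.center ↥M := MulEquiv.ofBijective (cproj M)
    ⟨(injective_iff_map_eq_one _).2 fun m hm => by
      rwa [QuotientGroup.mk'_apply, QuotientGroup.eq_one_iff, p.simple C, mem_bot] at hm,
    QuotientGroup.mk'_surjective _⟩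
  let Φ : MulAut ↥M ≃* MulAut (↥M ⧸ Subgroup.center ↥M) := MulAut.congr e
  let β : ↥(normalizer (M : Set (Bar a))) →* MulAut ↥M := M.normalizerMonoidHom
  let n : ↥(normalizer (M : Set (Bar a))) := ⟨sproj hSa y, p.norm C hS L y⟩
  set α := Φ (β n) with hα
  haveI := p.top_normal C hS L
  have hαψ : ∀ x : ↥(Top hSa M), α (ψ x) =
      ψ ⟨y * x * y⁻¹, Subgroup.Normal.conj_mem inferInstance _ x.2 y⟩ := fun x => by
    have he : e.symm (ψ x) = ⟨sproj hSa x, x.2⟩ := by
      rw [MulEquiv.symm_apply_eq]; exact hψ x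
    show e (β n (e.symm (ψ x))) = _
    rw [he, hψ]
    refine congrArg (cproj M) (Subtype.ext ?_)
    show sproj hSa y * sproj hSa x * (sproj hSa y)⁻¹ = sproj hSa (y * x * y⁻¹)
    rw [map_mul, map_mul, map_inv]
  have h2 : ∃ k : ℕ, α ^ 2 ^ k = 1 := by
    obtain ⟨k, hk⟩ := S.isPGroup' y
    refine ⟨k, ?_⟩
    have hn : n ^ 2 ^ k = 1 := Subtype.ext (by
      show sproj hSa y ^ 2 ^ k = 1
      rw [← map_pow, hk, map_one])
    rw [hα, ← map_pow, ← map_pow, hn, map_one, map_one]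
  have hfix : ∀ z ∈ centre (Qb : Subgroup (↥M ⧸ Subgroup.center ↥M)), α z = z := fun z hz => by
    obtain ⟨x, rfl⟩ := honto z hz.1
    rw [hαψ]
    refine congrArg ψ (Subtype.ext (Subtype.ext ?_))
    show (y : G) * _ * (y : G)⁻¹ = _
    rw [← mem_centralizer_iff.1 (hS y.2) _ (p.mem_part C ((hcen x).1 hz)), mul_inv_cancel_right]
  have hstab : ∀ z ∈ Qb, z⁻¹ * α z ∈ centre (Qb : Subgroup (↥M ⧸ Subgroup.center ↥M)) := fun z hz => by
    obtain ⟨x, rfl⟩ := honto z hz
    rw [hαψ, ← map_inv, ← map_mul]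
    exact (hcen _).2 (hy x x.2)
  obtain ⟨t, ht, hαt⟩ := (shapeFacts p.moved.data.shape).autInner Qb α h2 hfix hstab
  obtain ⟨s, rfl⟩ := honto t ht
  refine ⟨s, s.2, fun x hx => ?_, fun hs => ?_⟩
  · have h := hαψ ⟨x, hx⟩
    rw [hαt, MulAut.conj_apply, ← map_inv, ← map_mul, ← map_mul] at h
    exact (congrArg Subtype.val (hinj h)).symm
  · have hsq : ψ s * ψ s = 1 :=
      ((shapeFacts p.moved.data.shape).omega Qb _ (hmem s)).2 ((hcen s).2 hs)
    have h1 : β (n * n) = 1 := Φ.injective (by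
      rw [map_mul, map_mul, ← hα, hαt, ← map_mul, hsq, map_one, map_one])
    refine mem_centralizer_iff.2 fun m hm => ?_
    have h3 := congrArg Subtype.val (DFunLike.congr_fun h1 ⟨m, hm⟩)
    have h4 : sproj hSa (y * y) * m * (sproj hSa (y * y))⁻¹ = m := by
      rw [map_mul]; exact h3
    exact (mul_inv_eq_iff_eq_mul.1 h4).symm

include C L p in
/-- A large `Top` has squares onto the part. -/
theorem Pt.exists_sqrt (hbig : ∃ x ∈ Top (le_cent hS p.moved.mem) M, (x : G) ∉ P) {z : G}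
    (hz : z ∈ P) :
    ∃ x ∈ Top (le_cent hS p.moved.mem) M, ((x * x : ↥(S : Subgroup G)) : G) = z := by
  by_cases hz1 : z = 1
  · exact ⟨1, one_mem _, by simp [hz1]⟩
  obtain ⟨x0, hx0, hx0P⟩ := hbig
  obtain ⟨Qb, ψ, hinj, hmem, honto, -, hcen⟩ := p.exists_chart C hS L
  have F := shapeFacts p.moved.data.shape
  set w := ψ ⟨x0, hx0⟩
  have hw1 : w * w ≠ 1 := fun h => hx0P ((hcen _).1 ((F.omega Qb w (hmem _)).1 h))
  have hzA := p.mem_part C hz
  have hzT := (p.mem_part_iff C hS (x := ⟨z, C.le hzA⟩) hzA).1 hz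
  obtain ⟨h, hh, hT, -, -⟩ := F.torus Qb
  obtain ⟨k, hk⟩ := hT.trans _ (F.sq Qb w (hmem _)) _ ((hcen ⟨_, hzT⟩).2 hz) hw1 fun e => hz1 (by
    have := hinj (e.trans (map_one ψ).symm)
    exact congrArg (fun t : ↥(Top (le_cent hS p.moved.mem) M) => ((t : ↥(S : Subgroup G)) : G)) this)
  obtain ⟨x, hx⟩ := honto _ ((mem_normalizer_iff.1 (pow_mem hh k) w).1 (hmem _))
  refine ⟨x, x.2, ?_⟩
  have he : ψ (x * x) = ψ ⟨_, hzT⟩ := by
    rw [map_mul, hx, ← hk]
    group
  exact congrArg (fun t : ↥(Top (le_cent hS p.moved.mem) M) => ((t : ↥(S : Subgroup G)) : G)) (hinj he)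

include C p in
/-- Squares of `S` centralising `M` keep `A` out of `Φ(S)`. -/
theorem Pt.false_of_sq (h8 : Nat.card ↥A = 8)
    (hΦ : A.subgroupOf (S : Subgroup G) ≤ _root_.frattini ↥(S : Subgroup G))
    (hsq : ∀ y, sproj (le_cent hS p.moved.mem) (y * y) ∈ centralizer (M : Set (Bar a))) : False := by
  haveI : Fact (Nat.Prime 2) := ⟨Nat.prime_two⟩
  set K := (centralizer (M : Set (Bar a))).comap (sproj (le_cent hS p.moved.mem))
  have hc : _root_.commutator ↥(S : Subgroup G) ≤ K := by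
    rw [commutator_def, commutator_le]
    intro x _ y _
    rw [show ⁅x, y⁆ = (x * x) * ((x⁻¹ * y) * (x⁻¹ * y)) * (y⁻¹ * y⁻¹) by
      rw [commutatorElement_def]; group]
    exact mul_mem (mul_mem (hsq x) (hsq _)) (hsq _)
  haveI : K.Normal := Subgroup.Normal.of_commutator_le (G := ↥(S : Subgroup G)) (H := K) hc
  have hK : _root_.frattini ↥(S : Subgroup G) ≤ K :=
    PGroup.frattini_le_of_quotient_elementary (p := 2) hc fun x => by
      rw [pow_two]; exact hsq x
  have hAle : A ≤ zpowers a := fun x hx => by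
    rw [← p.fixer]
    exact (C.mem_pull p.moved.mem hx).2 (hK (hΦ (show (⟨x, C.le hx⟩ : ↥(S : Subgroup G)) ∈
      A.subgroupOf (S : Subgroup G) from mem_subgroupOf.2 hx)))
  have h := card_le_of_le hAle
  rw [h8, Nat.card_zpowers] at h
  have : orderOf a ≤ 2 := Nat.le_of_dvd (by norm_num)
    (orderOf_dvd_of_pow_eq_one (by rw [pow_two]; exact C.sq p.moved.mem))
  omega

include C L p in
/-- If `Top` is the part, `A` is not in `Φ(S)`. -/
theorem Pt.false_of_flat (h8 : Nat.card ↥A = 8)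
    (hΦ : A.subgroupOf (S : Subgroup G) ≤ _root_.frattini ↥(S : Subgroup G))
    (hflat : ∀ x ∈ Top (le_cent hS p.moved.mem) M, (x : G) ∈ P) : False := by
  refine p.false_of_sq C hS h8 hΦ fun y => ?_
  obtain ⟨s, hs, -, h⟩ := p.exists_inner C hS L (y := y) fun x hx => hflat _ (by
    haveI := p.top_normal C hS L
    exact mul_mem (inv_mem hx) (Subgroup.Normal.conj_mem inferInstance _ hx y))
  exact h (hflat s hs)

end

end Cfsg.Agent.Goldschmidt.General.Exceptional
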